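import Groth.Agent.Lefpen.H704.OneSing
import Groth.Agent.Lefpen.H705.D2Forward

/-!
# A form singular at exactly one closed point of `X`, with non-degenerate second order jet, is `OneOrdQuad`

`X` irreducible, smooth of relative dimension `n ≥ 1` over an algebraically closed field `k`, embedded by `i` in `ℙ^r`.
-/

set_option autoImplicit false
universe u

open CategoryTheory AlgebraicGeometry Limits TopologicalSpace Opposite

namespace Groth.Agent.Lefpen.H535.Member

open LefPen IsLocalRing Groth.Agent.Lefpen.H705.ClosedPoint Groth.Agent.Lefpen.H705.SecIdeal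
open Groth.Agent.Lefpen.H705.Quadric Groth.Agent.Lefpen.H705.HypIdeal
open Groth.Agent.Lefpen.H704.OneSing Groth.Agent.Lefpen.H705.D2Forward

variable {k : Type u} [Field k] [IsAlgClosed k] {r d : ℕ} {X : Scheme.{u}}
  (i : X ⟶ CohB1.ProjSpace r k)

/-- Version with relative dimension `m + 1`. -/
theorem oneOrdQuad_succ (m : ℕ) [SmoothOfRelativeDimension (m + 1) (i ≫ CohB1.ProjSpace.toSpec r k)]
    [IrreducibleSpace X] (H : Form r k d)
    (x : X) (hx : IsClosed ({x} : Set X)) (j : Fin (r + 1)) (hj : i x ∈ LefPen.chart r k j)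
    (hsing : stalkEqn i j x hj H ∈ maximalIdeal (X.presheaf.stalk x) ^ 2)
    (huniq : ∀ y : X, IsClosed ({y} : Set X) → ∀ (j' : Fin (r + 1)) (hj' : i y ∈ LefPen.chart r k j'),
      stalkEqn i j' y hj' H ∈ maximalIdeal (X.presheaf.stalk y) ^ 2 → y = x)
    (t : Fin (m + 1) → X.presheaf.stalk x)
    (ht : Ideal.span (Set.range t) = maximalIdeal (X.presheaf.stalk x))
    (Q₂ : Form m k 2) (hQ : NondegQuad k Q₂)
    (h3 : stalkEqn i j x hj H -
        MvPolynomial.eval₂ (toStalk k (i ≫ CohB1.ProjSpace.toSpec r k) x) t Q₂.1 ∈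
      maximalIdeal (X.presheaf.stalk x) ^ 3) :
    OneOrdQuad k (m + 1) i H := by
  obtain ⟨y, hy, hs⟩ := exists_isOrdQuadSing_of_jet i m H x hx j hj
    (Ideal.pow_le_self two_ne_zero hsing) t ht Q₂ h3 hQ
  subst hy
  rw [oneOrdQuad_iff i (m + 1) (by omega) H]
  refine ⟨y, hs, ?_⟩
  intro x' hx' j' hj'
  constructor
  · exact huniq x' hx' j' hj'
  · rintro rfl
    have h1 := stalkIdeal_secIdeal i ({H} : Set (Form r k d)) j _ hj
    have h2 := stalkIdeal_secIdeal i ({H} : Set (Form r k d)) j' _ hj'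
    rw [h1, Set.image_singleton, Set.image_singleton] at h2
    have h3 : stalkEqn i j' _ hj' H ∈ Ideal.span {stalkEqn i j _ hj H} := by
      rw [h2]
      exact Ideal.mem_span_singleton_self _
    exact (Ideal.span_singleton_le_iff_mem _).mpr hsing h3

/-- **Subtask S4019-MEMBER.** -/
theorem oneOrdQuad_of {n : ℕ} (hn : 1 ≤ n) [SmoothOfRelativeDimension n (i ≫ CohB1.ProjSpace.toSpec r k)]
    [IrreducibleSpace X] (H : Form r k d)
    (x : X) (hx : IsClosed ({x} : Set X)) (j : Fin (r + 1)) (hj : i x ∈ LefPen.chart r k j)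
    (hsing : stalkEqn i j x hj H ∈ maximalIdeal (X.presheaf.stalk x) ^ 2)
    (huniq : ∀ y : X, IsClosed ({y} : Set X) → ∀ (j' : Fin (r + 1)) (hj' : i y ∈ LefPen.chart r k j'),
      stalkEqn i j' y hj' H ∈ maximalIdeal (X.presheaf.stalk y) ^ 2 → y = x)
    (t : Fin (n - 1 + 1) → X.presheaf.stalk x)
    (ht : Ideal.span (Set.range t) = maximalIdeal (X.presheaf.stalk x))
    (Q₂ : Form (n - 1) k 2) (hQ : NondegQuad k Q₂)
    (h3 : stalkEqn i j x hj H -
        MvPolynomial.eval₂ (toStalk k (i ≫ CohB1.ProjSpace.toSpec r k) x) t Q₂.1 ∈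
      maximalIdeal (X.presheaf.stalk x) ^ 3) :
    OneOrdQuad k n i H := by
  obtain ⟨m, rfl⟩ : ∃ m, n = m + 1 := ⟨n - 1, by omega⟩
  exact oneOrdQuad_succ i m H x hx j hj hsing huniq t ht Q₂ hQ h3

end Groth.Agent.Lefpen.H535.Member
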